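import Groth.Prelude.Def_ChGrp
import Groth.Prelude.Def_ActBC
import Groth.Agent.GrpQuotLib.Orbit
import Mathlib

/-! A stable closed subscheme of a balanced product is a balanced product. -/

set_option autoImplicit false
set_option backward.isDefEq.respectTransparency false
set_option linter.style.haveILetI false
set_option maxHeartbeats 1000000

universe u

open CategoryTheory CategoryTheory.Limits MonoidalCategory CartesianMonoidalCategory MonObj AlgebraicGeometry

noncomputable section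

namespace Groth.Agent.BalProdSubLib

theorem exists_sub_balProd {S : Scheme.{u}} {G H Z Y Y' : Over S} [GrpObj G] [GrpObj H]
    (i : H ⟶ G) [IsMonHom i]
    (aZ : AlgGrp.Action H Z) (aY : AlgGrp.Action G Y) (j : G ⊗ Z ⟶ Y)
    (hY : ChGrp.IsBalProd Scheme.fppfPrecoverage i aZ aY j)
    (c : Y' ⟶ Y) [IsClosedImmersion c.left]
    (aY' : AlgGrp.Action G Y') (hc : AlgGrp.Action.IsEquivariant aY' aY c) :
    ∃ (Z' : Over S) (c' : Z' ⟶ Z) (aZ' : AlgGrp.Action H Z') (j' : G ⊗ Z' ⟶ Y'),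
      IsClosedImmersion c'.left ∧ AlgGrp.Action.IsEquivariant aZ' aZ c' ∧
      j' ≫ c = (G ◁ c') ≫ j ∧ ChGrp.IsBalProd Scheme.fppfPrecoverage i aZ' aY' j' := by
  obtain ⟨hej, hsq, htriv⟩ := hY
  haveI : Mono c := Over.mono_of_mono_left c
  have hje : ∀ (T : Over S) (g q : T ⟶ G) (z : T ⟶ Z),
      lift g (lift q z ≫ j) ≫ aY.act = lift (g * q) z ≫ j := fun T g q z => by
    rw [← lift_whiskerLeft_assoc, ← show _ = (G ◁ j) ≫ aY.act from hej, AlgGrp.Action.lift_prod_act_assoc,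
      AlgGrp.Action.lift_trivial_act, show lift g q ≫ (NonAbH1.trivialAction G).act = g * q from by rw [Hom.mul_def]; rfl]
  have hcc : ∀ (T : Over S) (g : T ⟶ G) (y : T ⟶ Y'), lift g y ≫ aY'.act ≫ c = lift g (y ≫ c) ≫ aY.act := fun T g y => by
    rw [show aY'.act ≫ c = (G ◁ c) ≫ aY.act from hc, lift_whiskerLeft_assoc]
  have hinv : ∀ (T : Over S) (h : T ⟶ H) (q : T ⟶ G) (z : T ⟶ Z),
      lift (q * (h ≫ i)⁻¹) (lift h z ≫ aZ.act) ≫ j = lift q z ≫ j := fun T h q z => by
    rw [← ChGrp.lift_twist_act, Category.assoc, hsq.w, lift_snd_assoc]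
  let ζ : Z ⟶ Y := lift (1 : Z ⟶ G) (𝟙 Z) ≫ j
  have hζ : ∀ (T : Over S) (z : T ⟶ Z), z ≫ ζ = lift (1 : T ⟶ G) z ≫ j := fun T z => by
    rw [comp_lift_assoc, MonObj.comp_one, Category.comp_id]
  have hζh : ∀ (T : Over S) (h : T ⟶ H) (z : T ⟶ Z),
      lift h z ≫ aZ.act ≫ ζ = lift (h ≫ i) (z ≫ ζ) ≫ aY.act := fun T h z => by
    rw [← Category.assoc, hζ, hζ, hje, _root_.mul_one]
    have := hinv T h (h ≫ i) z
    rwa [mul_inv_cancel] at this
  let zl : pullback ζ.left c.left ⟶ Z.left := pullback.fst ζ.left c.left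
  let Z' : Over S := Over.mk (zl ≫ Z.hom)
  let c' : Z' ⟶ Z := Over.homMk zl rfl
  let p : Z' ⟶ Y' := Over.homMk (pullback.snd ζ.left c.left) (by
    show _ = zl ≫ Z.hom
    rw [← Over.w ζ, ← Over.w c, pullback.condition_assoc])
  have hsqZ : IsPullback c' p ζ c := by
    refine IsPullback.of_map (Over.forget S) (Over.OverMorphism.ext pullback.condition) ?_
    exact IsPullback.of_hasPullback ζ.left c.left
  haveI : IsClosedImmersion c'.left := inferInstanceAs (IsClosedImmersion (pullback.fst ζ.left c.left))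
  haveI : Mono c' := Over.mono_of_mono_left c'
  let w : H ⊗ Z' ⟶ Z' := hsqZ.lift ((H ◁ c') ≫ aZ.act) ((i ⊗ₘ p) ≫ aY'.act) (by
    apply AlgGrp.Action.hom_ext_lift₂
    intro T h z
    rw [Category.assoc, Category.assoc, lift_whiskerLeft_assoc, lift_map_assoc, hcc, hζh, Category.assoc, Category.assoc,
      hsqZ.w])
  have hw : w ≫ c' = (H ◁ c') ≫ aZ.act := hsqZ.lift_fst _ _ _
  have hwp : ∀ (T : Over S) (h : T ⟶ H) (z : T ⟶ Z'), lift h z ≫ w ≫ c' = lift h (z ≫ c') ≫ aZ.act := fun T h z => by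
    rw [hw, lift_whiskerLeft_assoc]
  let aZ' : AlgGrp.Action H Z' :=
    { act := w
      one_act := by
        rw [← cancel_mono c', Category.assoc, hw, ← whisker_exchange_assoc, aZ.one_act, leftUnitor_naturality]
      mul_act := by
        rw [← cancel_mono c']
        apply AlgGrp.Action.hom_ext_lift₃
        intro T g g' z
        simp only [Category.assoc, hw, lift_whiskerRight_assoc, lift_whiskerLeft_assoc,
          lift_lift_associator_hom_assoc]
        have h' := congrArg (fun m => lift (lift g g') (z ≫ c') ≫ m) aZ.mul_act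
        simp only [lift_whiskerRight_assoc, lift_whiskerLeft_assoc, lift_lift_associator_hom_assoc] at h'
        rw [h'] }
  obtain ⟨j', hj'⟩ : ∃ m : G ⊗ Z' ⟶ Y', m = (G ◁ p) ≫ aY'.act := ⟨_, rfl⟩
  have hjp : ∀ (T : Over S) (g : T ⟶ G) (z : T ⟶ Z'), lift g z ≫ j' ≫ c = lift g (z ≫ c') ≫ j := fun T g z => by
    rw [hj', Category.assoc, lift_whiskerLeft_assoc, hcc, Category.assoc, ← hsqZ.w, ← Category.assoc z c' ζ, hζ, hje,
      _root_.mul_one]
  have hjc : j' ≫ c = (G ◁ c') ≫ j := by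
    apply AlgGrp.Action.hom_ext_lift₂
    intro T g z
    rw [hjp, lift_whiskerLeft_assoc]
  have hsub : ∀ (T : Over S) (g : T ⟶ G) (z : T ⟶ Z) (y : T ⟶ Y'), lift g z ≫ j = y ≫ c →
      ∃ z' : T ⟶ Z', z' ≫ c' = z := fun T g z y h => by
    refine ⟨hsqZ.lift z (lift g⁻¹ y ≫ aY'.act) ?_, hsqZ.lift_fst _ _ _⟩
    rw [Category.assoc, hcc, hζ, ← h, hje, inv_mul_cancel]
  have hs : ∀ s : PullbackCone c j, ∃ z' : s.pt ⟶ Z', z' ≫ c' = s.snd ≫ snd G Z := fun s =>
    hsub _ (s.snd ≫ fst G Z) (s.snd ≫ snd G Z) s.fst (by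
      rw [← comp_lift, lift_fst_snd, Category.comp_id]; exact s.condition.symm)
  choose z' hz' using hs
  have hpb : IsPullback j' (G ◁ c') c j := by
    refine ⟨⟨hjc⟩, ⟨PullbackCone.IsLimit.mk hjc
      (fun s => lift (s.snd ≫ fst G Z) (z' s)) (fun s => ?_) (fun s => ?_) (fun s m h₁ h₂ => ?_)⟩⟩
    · rw [← cancel_mono c, Category.assoc, hjp, hz', ← comp_lift, lift_fst_snd, Category.comp_id]
      exact s.condition.symm
    · rw [lift_whiskerLeft, hz', ← comp_lift, lift_fst_snd, Category.comp_id]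
    · apply CartesianMonoidalCategory.hom_ext
      · rw [lift_fst, ← h₂, Category.assoc, whiskerLeft_fst]
      · rw [lift_snd, ← cancel_mono c', hz', ← h₂, Category.assoc, Category.assoc, whiskerLeft_snd]
  haveI : Mono (G ◁ c') := ⟨fun a b h => by
    apply CartesianMonoidalCategory.hom_ext
    · simpa using congrArg (· ≫ fst G Z) h
    · rw [← cancel_mono c']; simpa using congrArg (· ≫ snd G Z) h⟩
  have htw : (ChGrp.twist i aZ').act ≫ (G ◁ c') = (H ◁ (G ◁ c')) ≫ (ChGrp.twist i aZ).act := by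
    apply AlgGrp.Action.hom_ext_lift₂
    intro T h x
    obtain ⟨g, z, rfl⟩ : ∃ g z, x = lift g z :=
      ⟨x ≫ fst G Z', x ≫ snd G Z', by rw [← comp_lift, lift_fst_snd, Category.comp_id]⟩
    rw [ChGrp.lift_twist_act_assoc, lift_whiskerLeft, lift_whiskerLeft_assoc, lift_whiskerLeft, ChGrp.lift_twist_act]
    exact congrArg (lift _) (by rw [Category.assoc]; exact hwp T h z)
  refine ⟨Z', c', aZ', j', ‹_›, hw, hjc, ?_, ?_, ?_⟩
  · rw [AlgGrp.Action.IsEquivariant, ← cancel_mono c]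
    apply AlgGrp.Action.hom_ext_lift₂
    intro T g x
    obtain ⟨q, z, rfl⟩ : ∃ q z, x = lift q z :=
      ⟨x ≫ fst G Z', x ≫ snd G Z', by rw [← comp_lift, lift_fst_snd, Category.comp_id]⟩
    rw [Category.assoc, Category.assoc, AlgGrp.Action.lift_prod_act_assoc, AlgGrp.Action.lift_trivial_act,
      show lift g q ≫ (NonAbH1.trivialAction G).act = g * q from by rw [Hom.mul_def]; rfl,
      hjp, lift_whiskerLeft_assoc, hcc, Category.assoc, hjp, hje]
  · have hw' : (ChGrp.twist i aZ').act ≫ j' = snd H (G ⊗ Z') ≫ j' := by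
      rw [← cancel_mono c, Category.assoc, Category.assoc, hjc, reassoc_of% htw, hsq.w, whiskerLeft_snd_assoc]
    have key : ∀ s : PullbackCone j' j', ∃ l : s.pt ⟶ H,
        lift l (s.snd ≫ (G ◁ c')) ≫ (ChGrp.twist i aZ).act = s.fst ≫ (G ◁ c') := fun s => by
      have h0 : (s.fst ≫ (G ◁ c')) ≫ j = (s.snd ≫ (G ◁ c')) ≫ j := by
        rw [Category.assoc, Category.assoc, ← hjc, s.condition_assoc]
      refine ⟨hsq.lift _ _ h0 ≫ fst H (G ⊗ Z), ?_⟩
      refine (congrArg (· ≫ (ChGrp.twist i aZ).act) ?_).trans (hsq.lift_fst _ _ h0)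
      apply CartesianMonoidalCategory.hom_ext
      · rw [lift_fst]
      · rw [lift_snd, hsq.lift_snd]
    choose l hl using key
    refine ⟨⟨hw'⟩, ⟨PullbackCone.IsLimit.mk hw' (fun s => lift (l s) s.snd) (fun s => ?_) (fun s => lift_snd _ _)
      (fun s m h₁ h₂ => ?_)⟩⟩
    · rw [← cancel_mono (G ◁ c'), Category.assoc, htw, lift_whiskerLeft_assoc, hl]
    · apply CartesianMonoidalCategory.hom_ext
      · rw [lift_fst]
        have h : m ≫ (H ◁ (G ◁ c')) = lift (l s) (s.snd ≫ (G ◁ c')) := by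
          apply hsq.hom_ext
          · rw [hl, Category.assoc, ← htw, reassoc_of% h₁]
          · rw [lift_snd, Category.assoc, whiskerLeft_snd, reassoc_of% h₂]
        simpa using congrArg (· ≫ fst H (G ⊗ Z)) h
      · rw [lift_snd, h₂]
  · have sq := (GrpQuotLib.isPullback_left hpb).flip
    obtain ⟨R, hR, hsec⟩ := NonAbH1.isLocallyTrivialFor_bc (X := Over.mk j.left) c.left Scheme.fppfPrecoverage htriv
    refine ⟨R, hR, fun T g hg => ?_⟩
    obtain ⟨t, ht⟩ := hsec g hg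
    refine ⟨t ≫ sq.isoPullback.inv, ?_⟩
    show (t ≫ sq.isoPullback.inv) ≫ j'.left = g
    rw [Category.assoc, sq.isoPullback_inv_snd]
    exact ht

end Groth.Agent.BalProdSubLib
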